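import Mathlib
import Cfsg.Agent.Lib.Involution.BaerSuzuki
import Cfsg.Agent.Lib.Involves.Basic
import Cfsg.Agent.Lib.Involves.Dihedral
import Cfsg.Agent.Lib.Involves.SymFour
import Cfsg.Agent.Lib.PGroup.ElemAbelian
import Cfsg.Agent.Lib.PSolvable.Core

/-!
An element `a` which acts on a self-centralizing elementary abelian normal `p`-subgroup `V` with
`[V, a] ⊆ ⟨a⟩` lies in every such `V = O_p`, unless `p = 2` and `S₄` is a section.
-/

set_option autoImplicit false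

namespace Cfsg.Agent.Lib.CyclicPNormal

open Subgroup

variable {G : Type*} [Group G] [Finite G] {p : ℕ} [hp : Fact p.Prime]

theorem eq_one_of_pow_eq_one_of_coprime {x : G} {m : ℕ} (h1 : x ^ p = 1) (h2 : x ^ m = 1)
    (hm : ¬ p ∣ m) : x = 1 := by
  have := pow_gcd_eq_one.2 ⟨h1, h2⟩
  rwa [((Nat.Prime.coprime_iff_not_dvd hp.out).2 hm).gcd_eq_one, pow_one] at this

theorem mem_zpowers_of_ne_one {z x : G} (hz : z ^ p = 1) (hx : x ∈ zpowers z) (hx1 : x ≠ 1) :
    z ∈ zpowers x := by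
  rcases eq_or_ne z 1 with rfl | hz1
  · exact one_mem _
  have hle : zpowers x ≤ zpowers z := zpowers_le.2 hx
  have hc : Nat.card (zpowers z) = p := by rw [Nat.card_zpowers, orderOf_eq_prime hz hz1]
  rcases (Nat.dvd_prime hp.out).1 (hc ▸ card_dvd_of_le hle) with h | h
  · exact absurd (zpowers_eq_bot.1 (eq_bot_of_card_eq _ h)) hx1
  · exact (eq_of_le_of_card_ge hle (by rw [hc, h])).symm ▸ mem_zpowers z

omit [Finite G] in
/-- Iterating a conjugation which multiplies `v` by an element it fixes. -/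
theorem pow_conj_eq {g v u : G} (h : g * v * g⁻¹ = v * u) (hu : g * u * g⁻¹ = u) (n : ℕ) :
    g ^ n * v * (g ^ n)⁻¹ = v * u ^ n := by
  induction n with
  | zero => simp
  | succ n ih =>
    calc g ^ (n + 1) * v * (g ^ (n + 1))⁻¹ = g * (g ^ n * v * (g ^ n)⁻¹) * g⁻¹ := by
          rw [pow_succ']; group
      _ = (g * v * g⁻¹) * (g * u ^ n * g⁻¹) := by rw [ih]; group
      _ = v * u ^ (n + 1) := by rw [← conj_pow, hu, h, mul_assoc, ← pow_succ']

/-- Two elements stabilising a common series of `V` generate a `p`-group. -/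
theorem isPGroup_closure_pair {V : Subgroup G} (hVn : V.Normal)
    (hV : Cfsg.IsElementaryAbelian p V) (hC : centralizer (V : Set G) ≤ V) {a b z w : G}
    (hz : z ∈ V) (hw : w ∈ V) (haz : a * z * a⁻¹ = z) (hbw : b * w * b⁻¹ = w)
    (haw : a * w * a⁻¹ = w)
    (ha : ∀ v ∈ V, a * v * a⁻¹ * v⁻¹ ∈ zpowers z) (hb : ∀ v ∈ V, b * v * b⁻¹ * v⁻¹ ∈ zpowers w) :
    IsPGroup p (closure ({a, b} : Set G)) := by
  have hc : ∀ x ∈ V, ∀ y ∈ V, x * y = y * x := fun x hx y hy => ElemAbelian.comm hV hx hy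
  set U := closure ({z, w} : Set G) with hU
  have hUV : U ≤ V := (closure_le _).2 (by rintro x (rfl | rfl) <;> assumption)
  have hzU : z ∈ U := subset_closure (by simp)
  have hwU : w ∈ U := subset_closure (by simp)
  let Q : G → Prop := fun g => g * w * g⁻¹ = w ∧ (∀ u ∈ U, g * u * g⁻¹ * u⁻¹ ∈ zpowers w) ∧
    ∀ v ∈ V, g * v * g⁻¹ * v⁻¹ ∈ U
  have hwV : zpowers w ≤ V := zpowers_le.2 hw
  have hwfix : ∀ g : G, g * w * g⁻¹ = w → ∀ x ∈ zpowers w, g * x * g⁻¹ = x := by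
    rintro g hg _ ⟨n, rfl⟩
    show g * w ^ n * g⁻¹ = w ^ n
    rw [← conj_zpow, hg]
  have hgU : ∀ g, Q g → ∀ u ∈ U, g * u * g⁻¹ ∈ U := by
    rintro g ⟨-, h, -⟩ u hu
    simpa using U.mul_mem ((zpowers_le.2 hwU) (h u hu)) hu
  have hQmul : ∀ g h, Q g → Q h → Q (g * h) := by
    intro g h hg hh
    refine ⟨?_, fun u hu => ?_, fun v hv => ?_⟩
    · calc g * h * w * (g * h)⁻¹ = g * (h * w * h⁻¹) * g⁻¹ := by group
        _ = w := by rw [hh.1, hg.1]
    · have := mul_mem (hg.2.1 _ (hgU h hh u hu)) (hh.2.1 u hu)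
      convert this using 1
      group
    · have := mul_mem (hg.2.2 _ (hVn.conj_mem v hv h)) (hh.2.2 v hv)
      convert this using 1
      group
  have hQone : Q 1 := ⟨by simp, fun u _ => by simp, fun v _ => by simp⟩
  have hQgen : ∀ g, g = a ∨ g = b → Q g := by
    rintro g (hg | hg) <;> subst hg
    · refine ⟨haw, fun u hu => ?_, fun v hv => (zpowers_le.2 hzU) (ha v hv)⟩
      have : g * u * g⁻¹ = u := by
        induction hu using closure_induction with
        | mem x hx => rcases hx with rfl | rfl <;> assumption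
        | one => simp
        | mul x y _ _ h1 h2 =>
          calc g * (x * y) * g⁻¹ = (g * x * g⁻¹) * (g * y * g⁻¹) := by group
            _ = x * y := by rw [h1, h2]
        | inv x _ h1 =>
          calc g * x⁻¹ * g⁻¹ = (g * x * g⁻¹)⁻¹ := by group
            _ = x⁻¹ := by rw [h1]
      rw [this, mul_inv_cancel]; exact one_mem _
    · exact ⟨hbw, fun u hu => hb u (hUV hu), fun v hv => (zpowers_le.2 hwU) (hb v hv)⟩
  have hQ : ∀ g ∈ closure ({a, b} : Set G), Q g := by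
    intro g hg
    rw [← mem_toSubmonoid, closure_toSubmonoid_of_finite] at hg
    induction hg using Submonoid.closure_induction with
    | mem x hx =>
      simp only [Set.mem_insert_iff, Set.mem_singleton_iff] at hx
      exact hQgen x hx
    | one => exact hQone
    | mul x y _ _ hx hy => exact hQmul x y hx hy
  rw [IsPGroup.iff_orderOf]
  rintro ⟨g, hg⟩
  rw [orderOf_mk]
  obtain ⟨i, m, hm, hmo⟩ := Nat.exists_eq_pow_mul_and_not_dvd (orderOf_pos g).ne' p hp.out.ne_one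
  refine ⟨i, ?_⟩
  -- the `p'`-part acts trivially
  set d := g ^ p ^ i with hd
  have hdm : d ^ m = 1 := by rw [hd, ← pow_mul, ← hmo, pow_orderOf_eq_one]
  obtain ⟨hdw, hdU, hdV⟩ := hQ d (pow_mem hg _)
  have hUfix : ∀ u ∈ U, d * u * d⁻¹ = u := by
    intro u hu
    have e : d * u * d⁻¹ = u * (d * u * d⁻¹ * u⁻¹) := by
      rw [hc u (hUV hu) _ (hwV (hdU u hu))]; group
    have := pow_conj_eq e (hwfix d hdw _ (hdU u hu)) m
    rw [hdm] at this
    have h1 : (d * u * d⁻¹ * u⁻¹) ^ m = 1 := by simpa using this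
    rw [e, eq_one_of_pow_eq_one_of_coprime (ElemAbelian.pow_eq_one hV (hwV (hdU u hu))) h1 hm,
      mul_one]
  have hVfix : d ∈ centralizer (V : Set G) := by
    intro v hv
    have e : d * v * d⁻¹ = v * (d * v * d⁻¹ * v⁻¹) := by
      rw [hc v hv _ (hUV (hdV v hv))]; group
    have := pow_conj_eq e (hUfix _ (hdV v hv)) m
    rw [hdm] at this
    have h1 : (d * v * d⁻¹ * v⁻¹) ^ m = 1 := by simpa using this
    rw [eq_one_of_pow_eq_one_of_coprime (ElemAbelian.pow_eq_one hV (hUV (hdV v hv))) h1 hm,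
      mul_one] at e
    exact (mul_inv_eq_iff_eq_mul.1 e).symm
  have hd1 : d = 1 :=
    eq_one_of_pow_eq_one_of_coprime (ElemAbelian.pow_eq_one hV (hC hVfix)) hdm hm
  have : orderOf g ∣ p ^ i := orderOf_dvd_of_pow_eq_one hd1
  exact Nat.dvd_antisymm this (hmo ▸ dvd_mul_right _ _)

/-- The plane core: `a`, `c` act as opposite transvections. -/
theorem false_or_involves {V : Subgroup G} (hVn : V.Normal)
    (hV : Cfsg.IsElementaryAbelian p V) (hC : centralizer (V : Set G) ≤ V) {a c z w : G}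
    (hz : z ∈ V) (hw : w ∈ V) (haz : a * z * a⁻¹ = z) (haw : a * w * a⁻¹ = w * z)
    (hcw : c * w * c⁻¹ = w) (hcz : c * z * c⁻¹ = z * w⁻¹) (hz1 : z ≠ 1)
    (ha2 : a ^ p ∈ V) (hc2 : c ^ p ∈ V) (haP : a ^ p ∈ zpowers z) (haP1 : a ^ p ≠ 1)
    (ha : ∀ v ∈ V, a * v * a⁻¹ * v⁻¹ ∈ zpowers z) (hc : ∀ v ∈ V, c * v * c⁻¹ * v⁻¹ ∈ zpowers w) :
    p = 2 ∧ Cfsg.Involves (Equiv.Perm (Fin 4)) G := by
  have hcomm : ∀ x ∈ V, ∀ y ∈ V, x * y = y * x := fun x hx y hy => ElemAbelian.comm hV hx hy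
  -- a third kind of element: fixed by both
  have hdec : ∀ v ∈ V, ∃ k l : ℤ, ∃ r ∈ V, a * r * a⁻¹ = r ∧ c * r * c⁻¹ = r ∧
      v = z ^ k * w ^ l * r := by
    intro v hv
    obtain ⟨l, hl⟩ := ha v hv
    obtain ⟨n, hn⟩ := hc v hv
    simp only at hl hn
    have hzl : ∀ i : ℤ, z ^ i ∈ V := fun i => zpow_mem hz i
    have hwl : ∀ i : ℤ, w ^ i ∈ V := fun i => zpow_mem hw i
    refine ⟨-n, l, z ^ n * w ^ (-l) * v, mul_mem (mul_mem (hzl _) (hwl _)) hv, ?_, ?_, ?_⟩
    · have e1 : a * z ^ n * a⁻¹ = z ^ n := by rw [← conj_zpow, haz]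
      have e2 : a * w ^ (-l) * a⁻¹ = w ^ (-l) * z ^ (-l) := by
        rw [← conj_zpow, haw, (show Commute w z from hcomm w hw z hz).mul_zpow]
      have e3 : a * v * a⁻¹ = z ^ l * v := by rw [hl]; group
      calc a * (z ^ n * w ^ (-l) * v) * a⁻¹
          = (a * z ^ n * a⁻¹) * (a * w ^ (-l) * a⁻¹) * (a * v * a⁻¹) := by group
        _ = z ^ n * w ^ (-l) * v := by rw [e1, e2, e3]; group
    · have e1 : c * z ^ n * c⁻¹ = z ^ n * w ^ (-n) := by
        rw [← conj_zpow, hcz,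
          (show Commute z w⁻¹ from hcomm z hz _ (inv_mem hw)).mul_zpow, inv_zpow']
      have e2 : c * w ^ (-l) * c⁻¹ = w ^ (-l) := by rw [← conj_zpow, hcw]
      have e3 : c * v * c⁻¹ = w ^ n * v := by rw [hn]; group
      calc c * (z ^ n * w ^ (-l) * v) * c⁻¹
          = (c * z ^ n * c⁻¹) * (c * w ^ (-l) * c⁻¹) * (c * v * c⁻¹) := by group
        _ = z ^ n * w ^ (-l) * v := by rw [e1, e2, e3]; group
    · rw [show z ^ (-n) * w ^ l * (z ^ n * w ^ (-l) * v)
        = z ^ (-n) * (w ^ l * z ^ n) * w ^ (-l) * v by group,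
        hcomm _ (hwl l) _ (hzl n)]
      group
  -- extension principle
  have hext : ∀ g : G, g * z * g⁻¹ = z → g * w * g⁻¹ = w →
      (∀ r ∈ V, a * r * a⁻¹ = r → c * r * c⁻¹ = r → g * r * g⁻¹ = r) → g ∈ V := by
    intro g h1 h2 h3
    refine hC fun v hv => ?_
    obtain ⟨k, l, r, hr, hra, hrc, rfl⟩ := hdec v hv
    have : g * (z ^ k * w ^ l * r) * g⁻¹ = z ^ k * w ^ l * r := by
      calc g * (z ^ k * w ^ l * r) * g⁻¹
          = (g * z ^ k * g⁻¹) * (g * w ^ l * g⁻¹) * (g * r * g⁻¹) := by group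
        _ = _ := by rw [h3 r hr hra hrc, ← conj_zpow, ← conj_zpow, h1, h2]
    exact (mul_inv_eq_iff_eq_mul.1 this).symm
  rcases eq_or_ne p 2 with hp2 | hp2
  · refine ⟨hp2, ?_⟩
    subst hp2
    haveI : Fact (Nat.Prime 3) := ⟨Nat.prime_three⟩
    have inv2 : ∀ x ∈ V, x⁻¹ = x := fun x hx => inv_eq_of_mul_eq_one_right (by
      rw [← pow_two]; exact ElemAbelian.pow_eq_one hV hx)
    have cz' : c * z * c⁻¹ = z * w := by rw [hcz, inv2 w hw]
    set s := a * c with hs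
    have sz : s * z * s⁻¹ = w := by
      calc s * z * s⁻¹ = a * (c * z * c⁻¹) * a⁻¹ := by rw [hs]; group
        _ = (a * z * a⁻¹) * (a * w * a⁻¹) := by rw [cz']; group
        _ = w := by
          rw [haz, haw, hcomm w hw z hz, ← mul_assoc,
            ← pow_two, ElemAbelian.pow_eq_one hV hz, one_mul]
    have sw : s * w * s⁻¹ = w * z := by
      calc s * w * s⁻¹ = a * (c * w * c⁻¹) * a⁻¹ := by rw [hs]; group
        _ = w * z := by rw [hcw, haw]
    have swz : s * (w * z) * s⁻¹ = z := by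
      calc s * (w * z) * s⁻¹ = (s * w * s⁻¹) * (s * z * s⁻¹) := by group
        _ = z := by
          rw [sw, sz, hcomm w hw z hz, mul_assoc, ← pow_two, ElemAbelian.pow_eq_one hV hw, mul_one]
    have hs3 : s ^ 3 ∈ V := by
      refine hext _ ?_ ?_ ?_
      · calc s ^ 3 * z * (s ^ 3)⁻¹ = s * (s * (s * z * s⁻¹) * s⁻¹) * s⁻¹ := by
              simp only [pow_succ, pow_zero, one_mul]; group
          _ = z := by rw [sz, sw, swz]
      · calc s ^ 3 * w * (s ^ 3)⁻¹ = s * (s * (s * w * s⁻¹) * s⁻¹) * s⁻¹ := by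
              simp only [pow_succ, pow_zero, one_mul]; group
          _ = w := by rw [sw, swz, sz]
      · intro r hr hra hrc
        have hsr : s * r * s⁻¹ = r := by
          calc s * r * s⁻¹ = a * (c * r * c⁻¹) * a⁻¹ := by rw [hs]; group
            _ = r := by rw [hrc, hra]
        calc s ^ 3 * r * (s ^ 3)⁻¹ = s * (s * (s * r * s⁻¹) * s⁻¹) * s⁻¹ := by
              simp only [pow_succ, pow_zero, one_mul]; group
          _ = r := by rw [hsr, hsr, hsr]
    let f := QuotientGroup.mk' V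
    have hfs : f s ≠ 1 := by
      intro h
      have hsV : s ∈ V := (QuotientGroup.eq_one_iff s).1 h
      rw [hcomm s hsV z hz, mul_inv_cancel_right] at sz
      have := hcz
      rw [← sz] at this
      rw [← sz, haz] at haw
      exact hz1 (mul_eq_left.1 haw.symm)
    have ho : orderOf (f s) = 3 := orderOf_eq_prime
      (by rw [← map_pow]; exact (QuotientGroup.eq_one_iff _).2 hs3) hfs
    have ia : (f a)⁻¹ = f a := inv_eq_of_mul_eq_one_right (by
      rw [← map_mul, ← pow_two]; exact (QuotientGroup.eq_one_iff _).2 ha2)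
    have ic : (f c)⁻¹ = f c := inv_eq_of_mul_eq_one_right (by
      rw [← map_mul, ← pow_two]; exact (QuotientGroup.eq_one_iff _).2 hc2)
    have hinv : f a * f s * (f a)⁻¹ = (f s)⁻¹ := by
      rw [hs, map_mul, mul_inv_rev, ia, ic, ← mul_assoc]
      have : f a * f a = 1 := by nth_rw 1 [← ia]; exact inv_mul_cancel _
      rw [this, one_mul]
    obtain ⟨x, y, ⟨kx, hx⟩, ⟨ky, hy⟩, hy1, hymem, hxy⟩ :=
      Involves.exists_inverting (p := 3) f (by norm_num) ho hinv
    have hNV : ∀ g : G, g ∈ normalizer (V : Set G) := fun g => by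
      rw [normalizer_eq_top]; exact mem_top g
    refine Involves.involves_s4_of_pair V hV (hNV x) (hNV y)
      ⟨kx, by rw [← hx, pow_orderOf_eq_one]⟩ hxy ?_ ?_
    · have hV' : V ≤ centralizer (V : Set G) := ElemAbelian.le_centralizer hV
      refine hV' ((QuotientGroup.eq_one_iff (N := V) _).1 ?_)
      show f (y ^ 3) = 1
      obtain ⟨n, hn⟩ := hymem
      simp only at hn
      have ho3 : f s ^ 3 = 1 := by rw [← ho]; exact pow_orderOf_eq_one _
      rw [map_pow, ← hn, ← zpow_natCast, ← zpow_mul, mul_comm, zpow_mul, zpow_natCast, ho3,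
        one_zpow]
    · exact fun h => hy1 ((QuotientGroup.eq_one_iff _).2 (hC h))
  · exfalso
    obtain ⟨k, hk⟩ : ∃ k, p = 2 * k + 1 := by
      rcases hp.out.eq_two_or_odd with h | h
      · exact absurd h hp2
      · exact ⟨p / 2, by omega⟩
    have hsq : ∀ x ∈ V, x * x = 1 → x = 1 := fun x hx h =>
      eq_one_of_pow_eq_one_of_coprime (m := 2) (ElemAbelian.pow_eq_one hV hx) (by rw [pow_two, h])
        (fun h2 => hp2 ((Nat.prime_dvd_prime_iff_eq hp.out Nat.prime_two).1 h2))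
    -- the square of a Weyl element inverts the plane
    set m := a * c * a with hm
    have mz : m * z * m⁻¹ = w⁻¹ := by
      calc m * z * m⁻¹ = a * (c * (a * z * a⁻¹) * c⁻¹) * a⁻¹ := by rw [hm]; group
        _ = a * (c * z * c⁻¹) * a⁻¹ := by rw [haz]
        _ = (a * z * a⁻¹) * (a * w * a⁻¹)⁻¹ := by rw [hcz]; group
        _ = w⁻¹ := by rw [haz, haw]; group
    have mw : m * w * m⁻¹ = z := by
      calc m * w * m⁻¹ = a * ((c * w * c⁻¹) * (c * z * c⁻¹)) * a⁻¹ := by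
            rw [hm, show a * c * a * w * (a * c * a)⁻¹ = a * (c * (a * w * a⁻¹) * c⁻¹) * a⁻¹ by
              group, haw]; group
        _ = a * z * a⁻¹ := by
          rw [hcw, hcz, hcomm z hz w⁻¹ (inv_mem hw)]; group
        _ = z := haz
    have mr : ∀ r ∈ V, a * r * a⁻¹ = r → c * r * c⁻¹ = r → m * r * m⁻¹ = r := by
      intro r _ hra hrc
      calc m * r * m⁻¹ = a * (c * (a * r * a⁻¹) * c⁻¹) * a⁻¹ := by rw [hm]; group
        _ = r := by rw [hra, hrc, hra]
    set j := m * m with hj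
    have jz : j * z * j⁻¹ = z⁻¹ := by
      calc j * z * j⁻¹ = m * (m * z * m⁻¹) * m⁻¹ := by rw [hj]; group
        _ = (m * w * m⁻¹)⁻¹ := by rw [mz]; group
        _ = z⁻¹ := by rw [mw]
    have jw : j * w * j⁻¹ = w⁻¹ := by
      calc j * w * j⁻¹ = m * (m * w * m⁻¹) * m⁻¹ := by rw [hj]; group
        _ = w⁻¹ := by rw [mw, mz]
    have jr : ∀ r ∈ V, a * r * a⁻¹ = r → c * r * c⁻¹ = r → j * r * j⁻¹ = r := by
      intro r hr hra hrc
      calc j * r * j⁻¹ = m * (m * r * m⁻¹) * m⁻¹ := by rw [hj]; group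
        _ = r := by rw [mr r hr hra hrc, mr r hr hra hrc]
    have hj2 : j ^ 2 ∈ V := by
      refine hext _ ?_ ?_ ?_
      · calc j ^ 2 * z * (j ^ 2)⁻¹ = j * (j * z * j⁻¹) * j⁻¹ := by rw [pow_two]; group
          _ = j * z⁻¹ * j⁻¹ := by rw [jz]
          _ = (j * z * j⁻¹)⁻¹ := by group
          _ = z := by rw [jz, inv_inv]
      · calc j ^ 2 * w * (j ^ 2)⁻¹ = j * (j * w * j⁻¹) * j⁻¹ := by rw [pow_two]; group
          _ = j * w⁻¹ * j⁻¹ := by rw [jw]
          _ = (j * w * j⁻¹)⁻¹ := by group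
          _ = w := by rw [jw, inv_inv]
      · intro r hr hra hrc
        calc j ^ 2 * r * (j ^ 2)⁻¹ = j * (j * r * j⁻¹) * j⁻¹ := by rw [pow_two]; group
          _ = r := by rw [jr r hr hra hrc, jr r hr hra hrc]
    set i := j ^ p with hi
    have iact : ∀ v ∈ V, i * v * i⁻¹ = j * v * j⁻¹ := by
      intro v hv
      have : (j ^ 2) ^ k ∈ V := pow_mem hj2 k
      calc i * v * i⁻¹ = j * ((j ^ 2) ^ k * v) * ((j ^ 2) ^ k)⁻¹ * j⁻¹ := by
            rw [hi, hk, pow_succ', pow_mul]; group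
        _ = j * v * j⁻¹ := by rw [hcomm _ this v hv]; group
    have hii : i * i = 1 := by
      rw [hi, ← pow_add, ← two_mul, pow_mul]; exact ElemAbelian.pow_eq_one hV hj2
    have iinv : i⁻¹ = i := inv_eq_of_mul_eq_one_right hii
    have iz : i * z * i⁻¹ = z⁻¹ := by rw [iact z hz, jz]
    have iw : i * w * i⁻¹ = w⁻¹ := by rw [iact w hw, jw]
    have ir : ∀ r ∈ V, a * r * a⁻¹ = r → c * r * c⁻¹ = r → i * r * i⁻¹ = r :=
      fun r hr h1 h2 => by rw [iact r hr, jr r hr h1 h2]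
    have az' : a⁻¹ * z * a = z := by
      conv_lhs => rw [← haz]
      group
    have aw' : a⁻¹ * w * a = w * z⁻¹ := by
      calc a⁻¹ * w * a = a⁻¹ * (w * z) * a * (a⁻¹ * z * a)⁻¹ := by group
        _ = w * z⁻¹ := by rw [← haw, az']; group
    set x := a * i * a⁻¹ * i with hx
    have hxV : x ∈ V := by
      refine hext _ ?_ ?_ ?_
      · calc x * z * x⁻¹ = a * (i * (a⁻¹ * (i * z * i⁻¹) * a) * i⁻¹) * a⁻¹ := by rw [hx]; group
          _ = a * (i * (a⁻¹ * z * a)⁻¹ * i⁻¹) * a⁻¹ := by rw [iz]; group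
          _ = a * (i * z * i⁻¹)⁻¹ * a⁻¹ := by rw [az']; group
          _ = z := by rw [iz, inv_inv, haz]
      · calc x * w * x⁻¹ = a * (i * (a⁻¹ * (i * w * i⁻¹) * a) * i⁻¹) * a⁻¹ := by rw [hx]; group
          _ = a * (i * (a⁻¹ * w * a)⁻¹ * i⁻¹) * a⁻¹ := by rw [iw]; group
          _ = a * ((i * z * i⁻¹) * (i * w * i⁻¹)⁻¹) * a⁻¹ := by rw [aw']; group
          _ = (a * z * a⁻¹)⁻¹ * (a * w * a⁻¹) := by rw [iz, iw]; group
          _ = w := by
            rw [haz, haw, ← mul_assoc, hcomm z⁻¹ (inv_mem hz) w hw]; group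
      · intro r hr hra hrc
        have ar' : a⁻¹ * r * a = r := by
          conv_lhs => rw [← hra]
          group
        calc x * r * x⁻¹ = a * (i * (a⁻¹ * (i * r * i⁻¹) * a) * i⁻¹) * a⁻¹ := by rw [hx]; group
          _ = r := by rw [ir r hr hra hrc, ar', ir r hr hra hrc, hra]
    -- `i` inverts `x`
    have hxi : i * x * i⁻¹ = x⁻¹ := by
      refine eq_inv_of_mul_eq_one_left ?_
      calc i * x * i⁻¹ * x = i * a * i * a⁻¹ * (i * i⁻¹) * a * i * a⁻¹ * i := by rw [hx]; group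
        _ = i * a * (i * i) * a⁻¹ * i := by group
        _ = i * a * 1 * a⁻¹ * i := by rw [hii]
        _ = i * i := by group
        _ = 1 := hii
    obtain ⟨k', l', r, hr, hra, hrc, hxe⟩ := hdec x hxV
    have hr1 : r = 1 := by
      apply hsq r hr
      have h1 : i * x * i⁻¹ = z ^ (-k') * w ^ (-l') * r := by
        rw [hxe]
        calc i * (z ^ k' * w ^ l' * r) * i⁻¹
            = (i * z ^ k' * i⁻¹) * (i * w ^ l' * i⁻¹) * (i * r * i⁻¹) := by group
          _ = _ := by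
            rw [ir r hr hra hrc, ← conj_zpow, iz, ← conj_zpow, iw, inv_zpow', inv_zpow']
      have h2 : x⁻¹ = z ^ (-k') * w ^ (-l') * r⁻¹ := by
        rw [hxe, mul_inv_rev, mul_inv_rev,
          hcomm _ (inv_mem (zpow_mem hw l')) _ (inv_mem (zpow_mem hz k')),
          hcomm r⁻¹ (inv_mem hr) _ (mul_mem (inv_mem (zpow_mem hz k')) (inv_mem (zpow_mem hw l'))),
          zpow_neg, zpow_neg]
      rw [hxi, h2] at h1
      calc r * r = r * r⁻¹ := by rw [mul_left_cancel h1]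
        _ = 1 := mul_inv_cancel r
    set y := x ^ k with hy
    have hyV : y ∈ V := pow_mem hxV k
    have hxp : x ^ p = 1 := ElemAbelian.pow_eq_one hV hxV
    have hcom : (y * a) * i * (y * a)⁻¹ = i := by
      have hiy : i * y⁻¹ * i⁻¹ = y := by
        rw [hy, ← inv_pow, ← conj_pow, show i * x⁻¹ * i⁻¹ = (i * x * i⁻¹)⁻¹ by group, hxi, inv_inv]
      calc (y * a) * i * (y * a)⁻¹ = y * (a * i * a⁻¹ * i) * (i⁻¹ * y⁻¹ * i) * i⁻¹ := by group
        _ = y * x * (i * y⁻¹ * i⁻¹) * i := by rw [← hx]; simp only [iinv]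
        _ = x ^ (k + 1 + k) * i := by
          rw [hiy, hy, ← pow_succ, ← pow_add]
        _ = i := by rw [show k + 1 + k = p by omega, hxp, one_mul]
    obtain ⟨t, ht⟩ := ha y hyV
    simp only at ht
    have hay : a * y * a⁻¹ = y * z ^ t := by
      rw [hcomm y hyV _ (zpow_mem hz t), ht]; group
    have hazt : a * z ^ t * a⁻¹ = z ^ t := by rw [← conj_zpow, haz]
    have hpw : ∀ n : ℕ, (y * a) ^ n = y ^ n * (z ^ t) ^ (n.choose 2) * a ^ n := by
      intro n
      induction n with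
      | zero => simp
      | succ n ih =>
        have h1 := pow_conj_eq hay hazt n
        calc (y * a) ^ (n + 1)
            = y ^ n * (z ^ t) ^ (n.choose 2) * (a ^ n * y * (a ^ n)⁻¹) * (a ^ n * a) := by
              rw [pow_succ, ih]; group
          _ = y ^ n * ((z ^ t) ^ (n.choose 2) * y) * (z ^ t) ^ n * a ^ (n + 1) := by
              rw [h1, pow_succ]; group
          _ = y ^ (n + 1) * ((z ^ t) ^ (n.choose 2) * (z ^ t) ^ n) * a ^ (n + 1) := by
              rw [← hcomm y hyV _ (pow_mem (zpow_mem hz t) _), pow_succ y]; group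
          _ = _ := by
              rw [← pow_add, show (n + 1).choose 2 = n.choose 2 + n by
                rw [Nat.choose_succ_succ', Nat.choose_one_right, add_comm]]
    have hap : (y * a) ^ p = a ^ p := by
      obtain ⟨q, hq⟩ : p ∣ p.choose 2 := hp.out.dvd_choose_self two_ne_zero
        (lt_of_le_of_ne hp.out.two_le (Ne.symm hp2))
      rw [hpw p, ElemAbelian.pow_eq_one hV hyV, hq, pow_mul,
        ElemAbelian.pow_eq_one hV (zpow_mem hz t), one_pow, one_mul, one_mul]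
    obtain ⟨n, hn⟩ := haP
    simp only at hn
    have h1 : i * a ^ p * i⁻¹ = (a ^ p)⁻¹ := by rw [← hn, ← conj_zpow, iz, inv_zpow]
    have hC1 : Commute (y * a) i := mul_inv_eq_iff_eq_mul.1 hcom
    have h2 : i * a ^ p * i⁻¹ = a ^ p := by
      rw [← hap, (hC1.pow_left p).eq.symm, mul_inv_cancel_right]
    exact haP1 (hsq _ ha2 (eq_inv_iff_mul_eq_one.1 (h2.symm.trans h1)))

/-- The main criterion. -/
theorem mem_of_cyclic_normalized {V : Subgroup G} (hVn : V.Normal)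
    (hV : Cfsg.IsElementaryAbelian p V) (hC : centralizer (V : Set G) ≤ V)
    (hmax : ∀ N : Subgroup G, N.Normal → IsPGroup p N → N ≤ V)
    (h4 : p ≠ 2 ∨ ¬ Cfsg.Involves (Equiv.Perm (Fin 4)) G) {a₀ : G}
    (ha₀ : ∃ i, a₀ ^ p ^ i = 1) (hnorm : ∀ v ∈ V, v * a₀ * v⁻¹ ∈ zpowers a₀) : a₀ ∈ V := by
  classical
  by_contra hnot
  have hex : ∃ i, a₀ ^ p ^ i ∈ V := by
    obtain ⟨i, hi⟩ := ha₀
    exact ⟨i, hi ▸ V.one_mem⟩
  obtain ⟨i, hi⟩ : ∃ i, Nat.find hex = i + 1 := by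
    refine Nat.exists_eq_succ_of_ne_zero fun h => hnot ?_
    have := Nat.find_spec hex
    rwa [h, pow_zero, pow_one] at this
  set a := a₀ ^ p ^ i with ha
  have haV : a ∉ V := Nat.find_min hex (by omega)
  have hapV : a ^ p ∈ V := by
    rw [ha, ← pow_mul, ← pow_succ, ← hi]; exact Nat.find_spec hex
  set z₀ := a ^ p with hz₀
  have hA : ∀ v ∈ V, a * v * a⁻¹ * v⁻¹ ∈ zpowers z₀ := by
    intro v hv
    obtain ⟨n, hn⟩ := hnorm v hv
    simp only at hn
    have h1 : v * a * v⁻¹ = a ^ n := by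
      rw [ha, ← conj_pow, ← hn, ← zpow_natCast, ← zpow_natCast, ← zpow_mul, ← zpow_mul, mul_comm]
    have h2 : a * v * a⁻¹ * v⁻¹ = a ^ (1 - n) := by
      calc a * v * a⁻¹ * v⁻¹ = a * (v * a * v⁻¹)⁻¹ := by group
        _ = a ^ (1 - n) := by rw [h1, zpow_sub, zpow_one]
    have h3 : a ^ (1 - n) ∈ V := h2 ▸ mul_mem (hVn.conj_mem v hv a) (inv_mem hv)
    have h4' : (p : ℤ) ∣ 1 - n := by
      by_contra h
      apply haV
      have hcop : IsCoprime (p : ℤ) (1 - n) :=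
        ((Nat.prime_iff_prime_int.1 hp.out).coprime_iff_not_dvd).2 h
      obtain ⟨u, v', huv⟩ := hcop
      have : a = (a ^ (p : ℤ)) ^ u * (a ^ (1 - n)) ^ v' := by
        rw [← zpow_mul, ← zpow_mul, ← zpow_add, mul_comm (p : ℤ), mul_comm (1 - n), huv, zpow_one]
      rw [this, zpow_natCast]
      exact mul_mem (zpow_mem hapV _) (zpow_mem h3 _)
    obtain ⟨q, hq⟩ := h4'
    rw [h2, hq, zpow_mul, zpow_natCast, ← hz₀]
    exact ⟨q, rfl⟩
  have hz₀1 : z₀ ≠ 1 := by
    intro h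
    apply haV (hC fun v hv => ?_)
    have := hA v hv
    rw [h, zpowers_one_eq_bot, mem_bot, mul_inv_eq_one] at this
    exact (mul_inv_eq_iff_eq_mul.1 this).symm
  obtain ⟨g, hg⟩ : ∃ g : G, ¬ IsPGroup p (closure ({a, g * a * g⁻¹} : Set G)) := by
    by_contra hcon
    push_neg at hcon
    obtain ⟨N, hN, hNp, haN⟩ := Involution.baer_suzuki_element a hcon
    exact haV (hmax N hN hNp haN)
  set b := g * a * g⁻¹ with hb
  set w₀ := g * z₀ * g⁻¹ with hw₀
  have hwV : w₀ ∈ V := hVn.conj_mem _ hapV g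
  have hB : ∀ v ∈ V, b * v * b⁻¹ * v⁻¹ ∈ zpowers w₀ := by
    intro v hv
    obtain ⟨n, hn⟩ := hA (g⁻¹ * v * g) (by simpa using hVn.conj_mem v hv g⁻¹)
    simp only at hn
    refine ⟨n, ?_⟩
    show w₀ ^ n = _
    rw [hw₀, conj_zpow, hn, hb]; group
  have haz : a * z₀ * a⁻¹ = z₀ := by
    rw [hz₀, (Commute.self_pow a p).eq, mul_inv_cancel_right]
  have hbw : b * w₀ * b⁻¹ = w₀ := by
    calc b * w₀ * b⁻¹ = g * (a * z₀ * a⁻¹) * g⁻¹ := by rw [hb, hw₀]; group
      _ = w₀ := by rw [haz]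
  have haw : a * w₀ * a⁻¹ ≠ w₀ := fun h =>
    hg (isPGroup_closure_pair hVn hV hC hapV hwV haz hbw h hA hB)
  have hbz : b * z₀ * b⁻¹ ≠ z₀ := fun h => hg (by
    rw [Set.pair_comm]
    exact isPGroup_closure_pair hVn hV hC hwV hapV hbw haz h hB hA)
  -- rescale
  set z := a * w₀ * a⁻¹ * w₀⁻¹ with hz
  have hz1 : z ≠ 1 := fun h => haw (mul_inv_eq_one.1 h)
  have hzmem : z ∈ zpowers z₀ := hA w₀ hwV
  have hzV : z ∈ V := (zpowers_le.2 hapV) hzmem
  have hz₀z : z₀ ∈ zpowers z := mem_zpowers_of_ne_one (ElemAbelian.pow_eq_one hV hapV) hzmem hz1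
  have haz' : a * z * a⁻¹ = z := by
    obtain ⟨n, hn⟩ := hzmem
    simp only at hn
    rw [← hn, ← conj_zpow, haz]
  set e := b * z * b⁻¹ * z⁻¹ with he
  have he1 : e ≠ 1 := fun h => hbz (by
    obtain ⟨n, hn⟩ := hz₀z
    simp only at hn
    rw [← hn, ← conj_zpow, mul_inv_eq_one.1 h])
  have hemem : e ∈ zpowers w₀ := hB z hzV
  have heV : e ∈ V := (zpowers_le.2 hwV) hemem
  obtain ⟨n, hn⟩ : ∃ n : ℕ, e ^ n = w₀⁻¹ := by
    have := inv_mem (mem_zpowers_of_ne_one (ElemAbelian.pow_eq_one hV hwV) hemem he1)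
    rw [← mem_powers_iff_mem_zpowers] at this
    exact this
  have hbe : b * e * b⁻¹ = e := by
    obtain ⟨m, hm⟩ := hemem
    simp only at hm
    rw [← hm, ← conj_zpow, hbw]
  have hbz' : b * z * b⁻¹ = z * e := by
    rw [ElemAbelian.comm hV hzV heV, he]; group
  have hcz : b ^ n * z * (b ^ n)⁻¹ = z * w₀⁻¹ := by rw [pow_conj_eq hbz' hbe n, hn]
  have hcw : b ^ n * w₀ * (b ^ n)⁻¹ = w₀ := by
    have := pow_conj_eq (g := b) (v := w₀) (u := 1) (by rw [hbw, mul_one]) (by simp) n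
    simpa using this
  have hC' : ∀ v ∈ V, b ^ n * v * (b ^ n)⁻¹ * v⁻¹ ∈ zpowers w₀ := by
    intro v hv
    have hu : b * v * b⁻¹ * v⁻¹ ∈ zpowers w₀ := hB v hv
    have huV : b * v * b⁻¹ * v⁻¹ ∈ V := (zpowers_le.2 hwV) hu
    have hfix : b * (b * v * b⁻¹ * v⁻¹) * b⁻¹ = b * v * b⁻¹ * v⁻¹ := by
      obtain ⟨m, hm⟩ := hu
      simp only at hm
      rw [← hm, ← conj_zpow, hbw]
    have e1 : b * v * b⁻¹ = v * (b * v * b⁻¹ * v⁻¹) := by
      rw [ElemAbelian.comm hV hv huV]; group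
    rw [pow_conj_eq e1 hfix n, ElemAbelian.comm hV hv (pow_mem huV n), mul_inv_cancel_right]
    exact pow_mem hu n
  have hbp : (b ^ n) ^ p ∈ V := by
    rw [← pow_mul, mul_comm, pow_mul, hb, conj_pow]
    exact pow_mem (hVn.conj_mem _ hapV g) n
  have hA' : ∀ v ∈ V, a * v * a⁻¹ * v⁻¹ ∈ zpowers z := fun v hv =>
    (zpowers_le.2 hz₀z) (hA v hv)
  have haw' : a * w₀ * a⁻¹ = w₀ * z := by
    rw [ElemAbelian.comm hV hwV hzV, hz]; group
  obtain ⟨h2, hinv⟩ := false_or_involves hVn hV hC hzV hwV haz' haw' hcw hcz hz1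
    hapV hbp hz₀z hz₀1 hA' hC'
  rcases h4 with h | h
  · exact h h2
  · exact h hinv

end Cfsg.Agent.Lib.CyclicPNormal
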